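import Cfsg.Agent.Lib.Cert.Suzs.C2D

set_option autoImplicit false
set_option maxRecDepth 100000

namespace Cfsg.Agent.Ct.Suzs.C2

open Cfsg.Agent.PC

theorem cb1176 : Nat.beq (rng f2 (nat_lit 1176) (nat_lit 588)) (nat_lit 0) = true := by decide +kernel
theorem cb1764 : Nat.beq (rng f2 (nat_lit 1764) (nat_lit 588)) (nat_lit 0) = true := by decide +kernel
theorem cb2352 : Nat.beq (rng f2 (nat_lit 2352) (nat_lit 588)) (nat_lit 0) = true := by decide +kernel
theorem cb2940 : Nat.beq (rng f2 (nat_lit 2940) (nat_lit 588)) (nat_lit 0) = true := by decide +kernel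
theorem cb3528 : Nat.beq (rng f2 (nat_lit 3528) (nat_lit 588)) (nat_lit 0) = true := by decide +kernel
theorem cb4116 : Nat.beq (rng f2 (nat_lit 4116) (nat_lit 588)) (nat_lit 0) = true := by decide +kernel
theorem cb4704 : Nat.beq (rng f2 (nat_lit 4704) (nat_lit 588)) (nat_lit 0) = true := by decide +kernel
theorem cb5292 : Nat.beq (rng f2 (nat_lit 5292) (nat_lit 588)) (nat_lit 0) = true := by decide +kernel
theorem cb5880 : Nat.beq (rng f2 (nat_lit 5880) (nat_lit 588)) (nat_lit 0) = true := by decide +kernel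
theorem cb6468 : Nat.beq (rng f2 (nat_lit 6468) (nat_lit 588)) (nat_lit 0) = true := by decide +kernel

end Cfsg.Agent.Ct.Suzs.C2
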