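import Cfsg.Agent.Lib.Cert.Suzs.C2D

set_option autoImplicit false
set_option maxRecDepth 100000

namespace Cfsg.Agent.Ct.Suzs.C2

open Cfsg.Agent.PC

theorem cb7056 : Nat.beq (rng f2 (nat_lit 7056) (nat_lit 588)) (nat_lit 0) = true := by decide +kernel
theorem cb7644 : Nat.beq (rng f2 (nat_lit 7644) (nat_lit 588)) (nat_lit 0) = true := by decide +kernel
theorem cb8232 : Nat.beq (rng f2 (nat_lit 8232) (nat_lit 588)) (nat_lit 0) = true := by decide +kernel
theorem cb8820 : Nat.beq (rng f2 (nat_lit 8820) (nat_lit 588)) (nat_lit 0) = true := by decide +kernel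
theorem cb9408 : Nat.beq (rng f2 (nat_lit 9408) (nat_lit 588)) (nat_lit 0) = true := by decide +kernel
theorem cb9996 : Nat.beq (rng f2 (nat_lit 9996) (nat_lit 588)) (nat_lit 0) = true := by decide +kernel
theorem cb10584 : Nat.beq (rng f2 (nat_lit 10584) (nat_lit 588)) (nat_lit 0) = true := by decide +kernel
theorem cb11172 : Nat.beq (rng f2 (nat_lit 11172) (nat_lit 588)) (nat_lit 0) = true := by decide +kernel
theorem cb11760 : Nat.beq (rng f2 (nat_lit 11760) (nat_lit 588)) (nat_lit 0) = true := by decide +kernel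
theorem cb12348 : Nat.beq (rng f2 (nat_lit 12348) (nat_lit 588)) (nat_lit 0) = true := by decide +kernel

end Cfsg.Agent.Ct.Suzs.C2
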