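import Cfsg.Agent.Lib.Cert.Suzs.C2D

set_option autoImplicit false
set_option maxRecDepth 100000

namespace Cfsg.Agent.Ct.Suzs.C2

open Cfsg.Agent.PC

theorem cb12936 : Nat.beq (rng f2 (nat_lit 12936) (nat_lit 588)) (nat_lit 0) = true := by decide +kernel
theorem cb13524 : Nat.beq (rng f2 (nat_lit 13524) (nat_lit 588)) (nat_lit 0) = true := by decide +kernel
theorem cb14112 : Nat.beq (rng f2 (nat_lit 14112) (nat_lit 588)) (nat_lit 0) = true := by decide +kernel
theorem cb14700 : Nat.beq (rng f2 (nat_lit 14700) (nat_lit 588)) (nat_lit 0) = true := by decide +kernel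
theorem cb15288 : Nat.beq (rng f2 (nat_lit 15288) (nat_lit 588)) (nat_lit 0) = true := by decide +kernel
theorem cb15876 : Nat.beq (rng f2 (nat_lit 15876) (nat_lit 588)) (nat_lit 0) = true := by decide +kernel
theorem cb16464 : Nat.beq (rng f2 (nat_lit 16464) (nat_lit 588)) (nat_lit 0) = true := by decide +kernel
theorem cb17052 : Nat.beq (rng f2 (nat_lit 17052) (nat_lit 588)) (nat_lit 0) = true := by decide +kernel
theorem cb17640 : Nat.beq (rng f2 (nat_lit 17640) (nat_lit 588)) (nat_lit 0) = true := by decide +kernel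
theorem cb18228 : Nat.beq (rng f2 (nat_lit 18228) (nat_lit 588)) (nat_lit 0) = true := by decide +kernel

end Cfsg.Agent.Ct.Suzs.C2
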