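import Cfsg.Agent.Lib.Cert.Suzs.C2D

set_option autoImplicit false
set_option maxRecDepth 100000

namespace Cfsg.Agent.Ct.Suzs.C2

open Cfsg.Agent.PC

theorem cb18816 : Nat.beq (rng f2 (nat_lit 18816) (nat_lit 588)) (nat_lit 0) = true := by decide +kernel
theorem cb19404 : Nat.beq (rng f2 (nat_lit 19404) (nat_lit 588)) (nat_lit 0) = true := by decide +kernel
theorem cb19992 : Nat.beq (rng f2 (nat_lit 19992) (nat_lit 588)) (nat_lit 0) = true := by decide +kernel
theorem cb20580 : Nat.beq (rng f2 (nat_lit 20580) (nat_lit 588)) (nat_lit 0) = true := by decide +kernel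
theorem cb21168 : Nat.beq (rng f2 (nat_lit 21168) (nat_lit 588)) (nat_lit 0) = true := by decide +kernel
theorem cb21756 : Nat.beq (rng f2 (nat_lit 21756) (nat_lit 588)) (nat_lit 0) = true := by decide +kernel
theorem cb22344 : Nat.beq (rng f2 (nat_lit 22344) (nat_lit 588)) (nat_lit 0) = true := by decide +kernel
theorem cb22932 : Nat.beq (rng f2 (nat_lit 22932) (nat_lit 588)) (nat_lit 0) = true := by decide +kernel
theorem cb23520 : Nat.beq (rng f2 (nat_lit 23520) (nat_lit 588)) (nat_lit 0) = true := by decide +kernel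
theorem cb24108 : Nat.beq (rng f2 (nat_lit 24108) (nat_lit 588)) (nat_lit 0) = true := by decide +kernel

end Cfsg.Agent.Ct.Suzs.C2
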