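import Cfsg.Agent.Lib.Cert.Suzs.C2D

set_option autoImplicit false
set_option maxRecDepth 100000

namespace Cfsg.Agent.Ct.Suzs.C2

open Cfsg.Agent.PC

theorem cb24696 : Nat.beq (rng f2 (nat_lit 24696) (nat_lit 588)) (nat_lit 0) = true := by decide +kernel
theorem cb25284 : Nat.beq (rng f2 (nat_lit 25284) (nat_lit 588)) (nat_lit 0) = true := by decide +kernel
theorem cb25872 : Nat.beq (rng f2 (nat_lit 25872) (nat_lit 588)) (nat_lit 0) = true := by decide +kernel
theorem cb26460 : Nat.beq (rng f2 (nat_lit 26460) (nat_lit 588)) (nat_lit 0) = true := by decide +kernel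
theorem cb27048 : Nat.beq (rng f2 (nat_lit 27048) (nat_lit 588)) (nat_lit 0) = true := by decide +kernel
theorem cb27636 : Nat.beq (rng f2 (nat_lit 27636) (nat_lit 588)) (nat_lit 0) = true := by decide +kernel
theorem cb28224 : Nat.beq (rng f2 (nat_lit 28224) (nat_lit 588)) (nat_lit 0) = true := by decide +kernel
theorem cb28812 : Nat.beq (rng f2 (nat_lit 28812) (nat_lit 588)) (nat_lit 0) = true := by decide +kernel
theorem cb29400 : Nat.beq (rng f2 (nat_lit 29400) (nat_lit 588)) (nat_lit 0) = true := by decide +kernel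
theorem cb29988 : Nat.beq (rng f2 (nat_lit 29988) (nat_lit 588)) (nat_lit 0) = true := by decide +kernel

end Cfsg.Agent.Ct.Suzs.C2
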