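import Cfsg.Agent.Lib.Cert.Suzs.C2D

set_option autoImplicit false
set_option maxRecDepth 100000

namespace Cfsg.Agent.Ct.Suzs.C2

open Cfsg.Agent.PC

theorem cb30576 : Nat.beq (rng f2 (nat_lit 30576) (nat_lit 588)) (nat_lit 0) = true := by decide +kernel
theorem cb31164 : Nat.beq (rng f2 (nat_lit 31164) (nat_lit 588)) (nat_lit 0) = true := by decide +kernel
theorem cb31752 : Nat.beq (rng f2 (nat_lit 31752) (nat_lit 588)) (nat_lit 0) = true := by decide +kernel
theorem cb32340 : Nat.beq (rng f2 (nat_lit 32340) (nat_lit 420)) (nat_lit 0) = true := by decide +kernel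

end Cfsg.Agent.Ct.Suzs.C2
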