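import Cfsg.Agent.Lib.Cert.Suzs.C2R0
import Cfsg.Agent.Lib.Cert.Suzs.C2R1
import Cfsg.Agent.Lib.Cert.Suzs.C2R2
import Cfsg.Agent.Lib.Cert.Suzs.C2R3
import Cfsg.Agent.Lib.Cert.Suzs.C2R4
import Cfsg.Agent.Lib.Cert.Suzs.C2R5
import Cfsg.Agent.Lib.Cert.Suzs.C2R6

set_option autoImplicit false
set_option maxRecDepth 100000

namespace Cfsg.Agent.Ct.Suzs.C2

open Cfsg.Agent.PC

open Cfsg.Agent.Fi Cfsg.Agent.Ct
theorem h1 : ∀ i < 65520, f1 i = 0 := by
  have h := zero_lt_zero f1
  have h := zero_lt_add (a := (nat_lit 0)) (n := (nat_lit 8333)) (b := (nat_lit 8333)) h ca0 rfl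
  have h := zero_lt_add (a := (nat_lit 8333)) (n := (nat_lit 8333)) (b := (nat_lit 16666)) h ca8333 rfl
  have h := zero_lt_add (a := (nat_lit 16666)) (n := (nat_lit 8333)) (b := (nat_lit 24999)) h ca16666 rfl
  have h := zero_lt_add (a := (nat_lit 24999)) (n := (nat_lit 8333)) (b := (nat_lit 33332)) h ca24999 rfl
  have h := zero_lt_add (a := (nat_lit 33332)) (n := (nat_lit 8333)) (b := (nat_lit 41665)) h ca33332 rfl
  have h := zero_lt_add (a := (nat_lit 41665)) (n := (nat_lit 8333)) (b := (nat_lit 49998)) h ca41665 rfl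
  have h := zero_lt_add (a := (nat_lit 49998)) (n := (nat_lit 8333)) (b := (nat_lit 58331)) h ca49998 rfl
  have h := zero_lt_add (a := (nat_lit 58331)) (n := (nat_lit 7189)) (b := (nat_lit 65520)) h ca58331 rfl
  exact h
theorem h2 : ∀ i < 32760, f2 i = 0 := by
  have h := zero_lt_zero f2
  have h := zero_lt_add (a := (nat_lit 0)) (n := (nat_lit 588)) (b := (nat_lit 588)) h cb0 rfl
  have h := zero_lt_add (a := (nat_lit 588)) (n := (nat_lit 588)) (b := (nat_lit 1176)) h cb588 rfl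
  have h := zero_lt_add (a := (nat_lit 1176)) (n := (nat_lit 588)) (b := (nat_lit 1764)) h cb1176 rfl
  have h := zero_lt_add (a := (nat_lit 1764)) (n := (nat_lit 588)) (b := (nat_lit 2352)) h cb1764 rfl
  have h := zero_lt_add (a := (nat_lit 2352)) (n := (nat_lit 588)) (b := (nat_lit 2940)) h cb2352 rfl
  have h := zero_lt_add (a := (nat_lit 2940)) (n := (nat_lit 588)) (b := (nat_lit 3528)) h cb2940 rfl
  have h := zero_lt_add (a := (nat_lit 3528)) (n := (nat_lit 588)) (b := (nat_lit 4116)) h cb3528 rfl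
  have h := zero_lt_add (a := (nat_lit 4116)) (n := (nat_lit 588)) (b := (nat_lit 4704)) h cb4116 rfl
  have h := zero_lt_add (a := (nat_lit 4704)) (n := (nat_lit 588)) (b := (nat_lit 5292)) h cb4704 rfl
  have h := zero_lt_add (a := (nat_lit 5292)) (n := (nat_lit 588)) (b := (nat_lit 5880)) h cb5292 rfl
  have h := zero_lt_add (a := (nat_lit 5880)) (n := (nat_lit 588)) (b := (nat_lit 6468)) h cb5880 rfl
  have h := zero_lt_add (a := (nat_lit 6468)) (n := (nat_lit 588)) (b := (nat_lit 7056)) h cb6468 rfl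
  have h := zero_lt_add (a := (nat_lit 7056)) (n := (nat_lit 588)) (b := (nat_lit 7644)) h cb7056 rfl
  have h := zero_lt_add (a := (nat_lit 7644)) (n := (nat_lit 588)) (b := (nat_lit 8232)) h cb7644 rfl
  have h := zero_lt_add (a := (nat_lit 8232)) (n := (nat_lit 588)) (b := (nat_lit 8820)) h cb8232 rfl
  have h := zero_lt_add (a := (nat_lit 8820)) (n := (nat_lit 588)) (b := (nat_lit 9408)) h cb8820 rfl
  have h := zero_lt_add (a := (nat_lit 9408)) (n := (nat_lit 588)) (b := (nat_lit 9996)) h cb9408 rfl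
  have h := zero_lt_add (a := (nat_lit 9996)) (n := (nat_lit 588)) (b := (nat_lit 10584)) h cb9996 rfl
  have h := zero_lt_add (a := (nat_lit 10584)) (n := (nat_lit 588)) (b := (nat_lit 11172)) h cb10584 rfl
  have h := zero_lt_add (a := (nat_lit 11172)) (n := (nat_lit 588)) (b := (nat_lit 11760)) h cb11172 rfl
  have h := zero_lt_add (a := (nat_lit 11760)) (n := (nat_lit 588)) (b := (nat_lit 12348)) h cb11760 rfl
  have h := zero_lt_add (a := (nat_lit 12348)) (n := (nat_lit 588)) (b := (nat_lit 12936)) h cb12348 rfl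
  have h := zero_lt_add (a := (nat_lit 12936)) (n := (nat_lit 588)) (b := (nat_lit 13524)) h cb12936 rfl
  have h := zero_lt_add (a := (nat_lit 13524)) (n := (nat_lit 588)) (b := (nat_lit 14112)) h cb13524 rfl
  have h := zero_lt_add (a := (nat_lit 14112)) (n := (nat_lit 588)) (b := (nat_lit 14700)) h cb14112 rfl
  have h := zero_lt_add (a := (nat_lit 14700)) (n := (nat_lit 588)) (b := (nat_lit 15288)) h cb14700 rfl
  have h := zero_lt_add (a := (nat_lit 15288)) (n := (nat_lit 588)) (b := (nat_lit 15876)) h cb15288 rfl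
  have h := zero_lt_add (a := (nat_lit 15876)) (n := (nat_lit 588)) (b := (nat_lit 16464)) h cb15876 rfl
  have h := zero_lt_add (a := (nat_lit 16464)) (n := (nat_lit 588)) (b := (nat_lit 17052)) h cb16464 rfl
  have h := zero_lt_add (a := (nat_lit 17052)) (n := (nat_lit 588)) (b := (nat_lit 17640)) h cb17052 rfl
  have h := zero_lt_add (a := (nat_lit 17640)) (n := (nat_lit 588)) (b := (nat_lit 18228)) h cb17640 rfl
  have h := zero_lt_add (a := (nat_lit 18228)) (n := (nat_lit 588)) (b := (nat_lit 18816)) h cb18228 rfl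
  have h := zero_lt_add (a := (nat_lit 18816)) (n := (nat_lit 588)) (b := (nat_lit 19404)) h cb18816 rfl
  have h := zero_lt_add (a := (nat_lit 19404)) (n := (nat_lit 588)) (b := (nat_lit 19992)) h cb19404 rfl
  have h := zero_lt_add (a := (nat_lit 19992)) (n := (nat_lit 588)) (b := (nat_lit 20580)) h cb19992 rfl
  have h := zero_lt_add (a := (nat_lit 20580)) (n := (nat_lit 588)) (b := (nat_lit 21168)) h cb20580 rfl
  have h := zero_lt_add (a := (nat_lit 21168)) (n := (nat_lit 588)) (b := (nat_lit 21756)) h cb21168 rfl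
  have h := zero_lt_add (a := (nat_lit 21756)) (n := (nat_lit 588)) (b := (nat_lit 22344)) h cb21756 rfl
  have h := zero_lt_add (a := (nat_lit 22344)) (n := (nat_lit 588)) (b := (nat_lit 22932)) h cb22344 rfl
  have h := zero_lt_add (a := (nat_lit 22932)) (n := (nat_lit 588)) (b := (nat_lit 23520)) h cb22932 rfl
  have h := zero_lt_add (a := (nat_lit 23520)) (n := (nat_lit 588)) (b := (nat_lit 24108)) h cb23520 rfl
  have h := zero_lt_add (a := (nat_lit 24108)) (n := (nat_lit 588)) (b := (nat_lit 24696)) h cb24108 rfl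
  have h := zero_lt_add (a := (nat_lit 24696)) (n := (nat_lit 588)) (b := (nat_lit 25284)) h cb24696 rfl
  have h := zero_lt_add (a := (nat_lit 25284)) (n := (nat_lit 588)) (b := (nat_lit 25872)) h cb25284 rfl
  have h := zero_lt_add (a := (nat_lit 25872)) (n := (nat_lit 588)) (b := (nat_lit 26460)) h cb25872 rfl
  have h := zero_lt_add (a := (nat_lit 26460)) (n := (nat_lit 588)) (b := (nat_lit 27048)) h cb26460 rfl
  have h := zero_lt_add (a := (nat_lit 27048)) (n := (nat_lit 588)) (b := (nat_lit 27636)) h cb27048 rfl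
  have h := zero_lt_add (a := (nat_lit 27636)) (n := (nat_lit 588)) (b := (nat_lit 28224)) h cb27636 rfl
  have h := zero_lt_add (a := (nat_lit 28224)) (n := (nat_lit 588)) (b := (nat_lit 28812)) h cb28224 rfl
  have h := zero_lt_add (a := (nat_lit 28812)) (n := (nat_lit 588)) (b := (nat_lit 29400)) h cb28812 rfl
  have h := zero_lt_add (a := (nat_lit 29400)) (n := (nat_lit 588)) (b := (nat_lit 29988)) h cb29400 rfl
  have h := zero_lt_add (a := (nat_lit 29988)) (n := (nat_lit 588)) (b := (nat_lit 30576)) h cb29988 rfl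
  have h := zero_lt_add (a := (nat_lit 30576)) (n := (nat_lit 588)) (b := (nat_lit 31164)) h cb30576 rfl
  have h := zero_lt_add (a := (nat_lit 31164)) (n := (nat_lit 588)) (b := (nat_lit 31752)) h cb31164 rfl
  have h := zero_lt_add (a := (nat_lit 31752)) (n := (nat_lit 588)) (b := (nat_lit 32340)) h cb31752 rfl
  have h := zero_lt_add (a := (nat_lit 32340)) (n := (nat_lit 420)) (b := (nat_lit 32760)) h cb32340 rfl
  exact h
theorem lok : LoK (Cfsg.Spor.Suz) 2 := lok_mono Suz.top (fun _ _ _ h1 h2 => Suz.card ▸ Suz.ub7 h1 h2) Suz.cx.inv Suz.rl (M := 65519) (N := 32760) rfl (by decide +kernel) h1 h2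
  (u := [nat_lit 4, nat_lit 1, nat_lit 2, nat_lit 3, nat_lit 4, nat_lit 0, nat_lit 4, nat_lit 5, nat_lit 0, nat_lit 4, nat_lit 1, nat_lit 2, nat_lit 4, nat_lit 1, nat_lit 5, nat_lit 4, nat_lit 0, nat_lit 2, nat_lit 6, nat_lit 4, nat_lit 1, nat_lit 2, nat_lit 1, nat_lit 3, nat_lit 4, nat_lit 6, nat_lit 5, nat_lit 4, nat_lit 1, nat_lit 6, nat_lit 4, nat_lit 2, nat_lit 5, nat_lit 1, nat_lit 4]) (v := [nat_lit 2, nat_lit 0, nat_lit 1, nat_lit 2, nat_lit 4, nat_lit 1, nat_lit 0, nat_lit 4, nat_lit 1, nat_lit 2, nat_lit 1, nat_lit 0, nat_lit 4, nat_lit 2, nat_lit 3, nat_lit 5, nat_lit 4, nat_lit 0, nat_lit 4, nat_lit 1, nat_lit 2, nat_lit 1, nat_lit 5, nat_lit 4, nat_lit 0, nat_lit 1, nat_lit 2, nat_lit 4, nat_lit 1, nat_lit 2, nat_lit 6, nat_lit 4, nat_lit 0, nat_lit 1, nat_lit 2, nat_lit 3, nat_lit 4, nat_lit 1, nat_lit 2, nat_lit 5, nat_lit 6, nat_lit 4, nat_lit 1, nat_lit 2, nat_lit 3, nat_lit 1, nat_lit 6, nat_lit 4, nat_lit 5]) (by decide +kernel) ((Suz.md0).eq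 (by decide +kernel))

end Cfsg.Agent.Ct.Suzs.C2
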