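import Cfsg.Agent.Lib.Cert.Suz.M
import Cfsg.Agent.Lib.Cert.Sch2

set_option autoImplicit false
set_option maxRecDepth 100000

namespace Cfsg.Agent.Ct.Suzs.S3

open Cfsg.Agent.PC

open Cfsg.Agent.Fi Cfsg.Agent.Ct
def W_t : TL := (TL.node (TL.node (TL.node (TL.node (TL.node (TL.leaf []) (TL.leaf [nat_lit 3, nat_lit 4, nat_lit 1, nat_lit 2, nat_lit 3, nat_lit 4, nat_lit 0, nat_lit 4, nat_lit 5, nat_lit 0, nat_lit 4, nat_lit 0, nat_lit 1, nat_lit 4, nat_lit 2, nat_lit 3, nat_lit 1, nat_lit 5, nat_lit 4, nat_lit 6, nat_lit 5, nat_lit 6, nat_lit 4, nat_lit 5, nat_lit 0, nat_lit 2, nat_lit 1, nat_lit 3, nat_lit 4, nat_lit 0, nat_lit 1, nat_lit 6, nat_lit 4, nat_lit 0, nat_lit 1, nat_lit 2, nat_lit 1, nat_lit 3, nat_lit 4, nat_lit 1, nat_lit 2, nat_lit 1, nat_lit 4, nat_lit 0, nat_lit 4, nat_lit 2, nat_lit 3, nat_lit 5, nat_lit 1])) (TL.leaf [nat_lit 3, nat_lit 4, nat_lit 1, nat_lit 4, nat_lit 0, nat_lit 4, nat_lit 5, nat_lit 0, nat_lit 4, nat_lit 0, nat_lit 1, nat_lit 2, nat_lit 5, nat_lit 4, nat_lit 0, nat_lit 4, nat_lit 1, nat_lit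 2, nat_lit 1, nat_lit 3, nat_lit 2, nat_lit 1, nat_lit 4, nat_lit 1, nat_lit 2, nat_lit 1, nat_lit 6, nat_lit 4, nat_lit 1, nat_lit 6, nat_lit 4, nat_lit 2, nat_lit 1, nat_lit 3, nat_lit 2, nat_lit 1, nat_lit 4, nat_lit 1, nat_lit 2, nat_lit 3, nat_lit 5, nat_lit 4, nat_lit 1, nat_lit 0, nat_lit 4, nat_lit 1, nat_lit 0, nat_lit 2])) (TL.node (TL.leaf [nat_lit 2, nat_lit 4, nat_lit 1, nat_lit 2, nat_lit 3, nat_lit 0, nat_lit 4, nat_lit 2, nat_lit 0, nat_lit 1, nat_lit 2, nat_lit 1, nat_lit 3, nat_lit 2, nat_lit 1, nat_lit 4, nat_lit 0, nat_lit 5, nat_lit 4, nat_lit 1, nat_lit 6, nat_lit 5, nat_lit 4, nat_lit 1, nat_lit 2, nat_lit 1, nat_lit 3, nat_lit 2, nat_lit 1, nat_lit 4, nat_lit 0, nat_lit 1, nat_lit 2, nat_lit 4, nat_lit 1, nat_lit 5, nat_lit 0, nat_lit 4, nat_lit 3, nat_lit 5, nat_lit 2, nat_lit 3]) (TL.leaf [nat_lit 4, nat_lit 1, nat_lit 2, nat_lit 3, nat_lit 4, nat_lit 0, nat_lit 5, nat_lit 4, nat_lit 1, nat_lit 2, nat_lit 5, nat_lit 4, nat_lit 1, nat_lit 0, nat_lit 4, nat_lit 0, nat_lit 4, nat_lit 1, nat_lit 2, nat_lit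 1, nat_lit 3, nat_lit 4, nat_lit 0, nat_lit 4, nat_lit 0, nat_lit 2, nat_lit 5, nat_lit 4, nat_lit 1, nat_lit 2, nat_lit 3, nat_lit 5, nat_lit 6, nat_lit 4, nat_lit 1, nat_lit 2, nat_lit 1, nat_lit 3, nat_lit 2, nat_lit 1, nat_lit 4, nat_lit 5, nat_lit 4, nat_lit 1]))) (TL.node (TL.node (TL.leaf [nat_lit 4, nat_lit 1, nat_lit 0, nat_lit 4, nat_lit 0, nat_lit 5, nat_lit 4, nat_lit 0, nat_lit 4, nat_lit 1, nat_lit 4, nat_lit 2, nat_lit 1, nat_lit 5, nat_lit 4, nat_lit 0, nat_lit 4, nat_lit 0, nat_lit 2, nat_lit 1, nat_lit 6, nat_lit 2, nat_lit 3, nat_lit 4, nat_lit 1, nat_lit 2, nat_lit 6, nat_lit 4, nat_lit 1, nat_lit 3, nat_lit 4, nat_lit 0, nat_lit 6, nat_lit 4, nat_lit 6, nat_lit 2, nat_lit 1, nat_lit 5, nat_lit 6, nat_lit 4, nat_lit 0, nat_lit 4, nat_lit 0]) (TL.leaf [nat_lit 3, nat_lit 4, nat_lit 1, nat_lit 2, nat_lit 1, nat_lit 4, nat_lit 2, nat_lit 0, nat_lit 5, nat_lit 4, nat_lit 0, nat_lit 4, nat_lit 1, nat_lit 2, nat_lit 3, nat_lit 1, nat_lit 4, nat_lit 1, nat_lit 2, nat_lit 1, nat_lit 3, nat_lit 2, nat_lit 1, nat_lit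 4, nat_lit 0, nat_lit 4, nat_lit 0, nat_lit 1, nat_lit 6, nat_lit 4, nat_lit 0, nat_lit 1, nat_lit 2, nat_lit 1, nat_lit 3, nat_lit 2, nat_lit 4, nat_lit 0, nat_lit 6, nat_lit 4, nat_lit 1, nat_lit 2, nat_lit 5, nat_lit 4, nat_lit 5, nat_lit 3])) (TL.node (TL.leaf [nat_lit 3, nat_lit 2, nat_lit 3, nat_lit 1, nat_lit 2, nat_lit 1, nat_lit 5, nat_lit 4, nat_lit 0, nat_lit 1, nat_lit 4, nat_lit 2, nat_lit 1, nat_lit 0, nat_lit 3, nat_lit 4, nat_lit 1, nat_lit 0, nat_lit 4, nat_lit 0, nat_lit 4, nat_lit 5, nat_lit 1, nat_lit 2, nat_lit 3, nat_lit 4, nat_lit 1, nat_lit 2, nat_lit 5, nat_lit 4, nat_lit 0, nat_lit 1, nat_lit 4, nat_lit 0, nat_lit 4, nat_lit 6, nat_lit 4, nat_lit 0, nat_lit 1, nat_lit 2, nat_lit 1, nat_lit 3, nat_lit 2, nat_lit 4, nat_lit 0, nat_lit 1, nat_lit 4, nat_lit 0, nat_lit 2, nat_lit 6, nat_lit 1, nat_lit 2, nat_lit 1]) (TL.leaf [nat_lit 4, nat_lit 1, nat_lit 2, nat_lit 3, nat_lit 0, nat_lit 4, nat_lit 0, nat_lit 5, nat_lit 4, nat_lit 0, nat_lit 4, nat_lit 1, nat_lit 2, nat_lit 3, nat_lit 1, nat_lit 4, nat_lit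 2, nat_lit 0, nat_lit 5, nat_lit 4, nat_lit 1, nat_lit 2, nat_lit 1, nat_lit 3, nat_lit 4, nat_lit 1, nat_lit 2, nat_lit 1, nat_lit 3, nat_lit 2, nat_lit 4, nat_lit 0, nat_lit 6, nat_lit 4, nat_lit 1, nat_lit 2, nat_lit 1, nat_lit 3, nat_lit 4, nat_lit 6, nat_lit 5, nat_lit 4, nat_lit 1, nat_lit 4, nat_lit 0, nat_lit 4])))) (TL.node (TL.node (TL.node (TL.leaf [nat_lit 4, nat_lit 1, nat_lit 2, nat_lit 1, nat_lit 4, nat_lit 2, nat_lit 3, nat_lit 1, nat_lit 5, nat_lit 4, nat_lit 0, nat_lit 2, nat_lit 3, nat_lit 1, nat_lit 4, nat_lit 2, nat_lit 0, nat_lit 1, nat_lit 2, nat_lit 1, nat_lit 3, nat_lit 4, nat_lit 0, nat_lit 4, nat_lit 6, nat_lit 4, nat_lit 1, nat_lit 2, nat_lit 1, nat_lit 4, nat_lit 0, nat_lit 2, nat_lit 3, nat_lit 4, nat_lit 1, nat_lit 5]) (TL.leaf [nat_lit 3, nat_lit 4, nat_lit 1, nat_lit 2, nat_lit 1, nat_lit 3, nat_lit 2, nat_lit 1, nat_lit 5, nat_lit 4, nat_lit 0, nat_lit 4, nat_lit 5, nat_lit 1, nat_lit 2, nat_lit 1, nat_lit 3, nat_lit 2, nat_lit 1, nat_lit 4, nat_lit 0, nat_lit 2, nat_lit 1, nat_lit 2, nat_lit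 4, nat_lit 0, nat_lit 1, nat_lit 4, nat_lit 6, nat_lit 4, nat_lit 0, nat_lit 1, nat_lit 2, nat_lit 1, nat_lit 3, nat_lit 2, nat_lit 4, nat_lit 1, nat_lit 2, nat_lit 3, nat_lit 5, nat_lit 6, nat_lit 4, nat_lit 0, nat_lit 4, nat_lit 2, nat_lit 1])) (TL.node (TL.leaf [nat_lit 2, nat_lit 3, nat_lit 0, nat_lit 5, nat_lit 4, nat_lit 0, nat_lit 1, nat_lit 2, nat_lit 1, nat_lit 5, nat_lit 4, nat_lit 0, nat_lit 1, nat_lit 4, nat_lit 2, nat_lit 1, nat_lit 0, nat_lit 2, nat_lit 1, nat_lit 4, nat_lit 2, nat_lit 1, nat_lit 3, nat_lit 2, nat_lit 1, nat_lit 4, nat_lit 1, nat_lit 2, nat_lit 1, nat_lit 5, nat_lit 4, nat_lit 6, nat_lit 4, nat_lit 1, nat_lit 2, nat_lit 1, nat_lit 3, nat_lit 2, nat_lit 4, nat_lit 6, nat_lit 5, nat_lit 4, nat_lit 6, nat_lit 1]) (TL.leaf [nat_lit 3, nat_lit 4, nat_lit 1, nat_lit 2, nat_lit 4, nat_lit 0, nat_lit 4, nat_lit 5, nat_lit 0, nat_lit 4, nat_lit 0, nat_lit 1, nat_lit 2, nat_lit 1, nat_lit 4, nat_lit 2, nat_lit 3, nat_lit 2, nat_lit 0, nat_lit 5, nat_lit 4, nat_lit 1, nat_lit 2, nat_lit 1, nat_lit 3, nat_lit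 2, nat_lit 1, nat_lit 5, nat_lit 6, nat_lit 4, nat_lit 0, nat_lit 1, nat_lit 2, nat_lit 3, nat_lit 4, nat_lit 1, nat_lit 2, nat_lit 1, nat_lit 5, nat_lit 4, nat_lit 0, nat_lit 1, nat_lit 2, nat_lit 4, nat_lit 1]))) (TL.node (TL.node (TL.leaf [nat_lit 3, nat_lit 2, nat_lit 3, nat_lit 0, nat_lit 1, nat_lit 2, nat_lit 4, nat_lit 1, nat_lit 0, nat_lit 4, nat_lit 5, nat_lit 1, nat_lit 2, nat_lit 1, nat_lit 3, nat_lit 2, nat_lit 4, nat_lit 5, nat_lit 4, nat_lit 0, nat_lit 4, nat_lit 5, nat_lit 1, nat_lit 2, nat_lit 4, nat_lit 1, nat_lit 2, nat_lit 5, nat_lit 4, nat_lit 0, nat_lit 3, nat_lit 2, nat_lit 1, nat_lit 2, nat_lit 4, nat_lit 1, nat_lit 6, nat_lit 4, nat_lit 0, nat_lit 1, nat_lit 2, nat_lit 1, nat_lit 3, nat_lit 4, nat_lit 0, nat_lit 1, nat_lit 2, nat_lit 1, nat_lit 4, nat_lit 0, nat_lit 6, nat_lit 4, nat_lit 0]) (TL.leaf [nat_lit 3, nat_lit 0, nat_lit 1, nat_lit 2, nat_lit 4, nat_lit 1, nat_lit 2, nat_lit 0, nat_lit 4, nat_lit 1, nat_lit 2, nat_lit 1, nat_lit 2, nat_lit 3, nat_lit 5, nat_lit 1, nat_lit 2, nat_lit 1, nat_lit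 3, nat_lit 2, nat_lit 4, nat_lit 1, nat_lit 5, nat_lit 4, nat_lit 1, nat_lit 2, nat_lit 1, nat_lit 6, nat_lit 4, nat_lit 1, nat_lit 2, nat_lit 1, nat_lit 3, nat_lit 2, nat_lit 1, nat_lit 4, nat_lit 1, nat_lit 5, nat_lit 6, nat_lit 4, nat_lit 1, nat_lit 5, nat_lit 3, nat_lit 2, nat_lit 1, nat_lit 3])) (TL.node (TL.leaf [nat_lit 2, nat_lit 0, nat_lit 4, nat_lit 0, nat_lit 1, nat_lit 2, nat_lit 3, nat_lit 4, nat_lit 1, nat_lit 2, nat_lit 1, nat_lit 4, nat_lit 3, nat_lit 2, nat_lit 1, nat_lit 0, nat_lit 4, nat_lit 0, nat_lit 3, nat_lit 4, nat_lit 1, nat_lit 4, nat_lit 2, nat_lit 0, nat_lit 1, nat_lit 2, nat_lit 3, nat_lit 4, nat_lit 1, nat_lit 2, nat_lit 5, nat_lit 4, nat_lit 0, nat_lit 1, nat_lit 2, nat_lit 3, nat_lit 4, nat_lit 5, nat_lit 6, nat_lit 4, nat_lit 0, nat_lit 1, nat_lit 2, nat_lit 1, nat_lit 3, nat_lit 4, nat_lit 0, nat_lit 5, nat_lit 4, nat_lit 1, nat_lit 2, nat_lit 4, nat_lit 3, nat_lit 6, nat_lit 0]) (TL.leaf [nat_lit 3, nat_lit 2, nat_lit 3, nat_lit 0, nat_lit 1, nat_lit 2, nat_lit 4, nat_lit 1, nat_lit 0, nat_lit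 4, nat_lit 5, nat_lit 1, nat_lit 2, nat_lit 1, nat_lit 4, nat_lit 1, nat_lit 4, nat_lit 1, nat_lit 2, nat_lit 1, nat_lit 3, nat_lit 2, nat_lit 4, nat_lit 0, nat_lit 5, nat_lit 4, nat_lit 1, nat_lit 3, nat_lit 2, nat_lit 6, nat_lit 4, nat_lit 0, nat_lit 1, nat_lit 2, nat_lit 3, nat_lit 4, nat_lit 1, nat_lit 2, nat_lit 5, nat_lit 4, nat_lit 1, nat_lit 2, nat_lit 3, nat_lit 6, nat_lit 5, nat_lit 4, nat_lit 1, nat_lit 0, nat_lit 6])))))
noncomputable def W (i : ℕ) : List ℕ := TL.get W_t i
def B : List ℕ := [nat_lit 0, nat_lit 2, nat_lit 4, nat_lit 8, nat_lit 14]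
noncomputable def q (j : ℕ) : Cfsg.Spor.Suz := ev Suz.al (W j)
noncomputable def Q (j : ℕ) : ℕ → ℕ := trF Suz.T (W j)
theorem md : Md Suz.pt 1782 B q Q 17 := (Suz.md0).words' (by decide +kernel)
def I (i : ℕ) : ℕ := Nat.land (Nat.shiftRight (nat_lit 0x9025098270a0290a800000000000000000000000000000000000000000000000000000000000000000000000000000000000000000000000000000000000000000000000000000000000000000000000741e07c200842208c0000000000000000000000000000000000000000000000000000000000000000000000000000000000000000000000000000000000000000000000000000000000000000000000070000000000000000000000000000000000000000000000000000000000000000000000000000000000000000000000000000000000000000000000000000000000000000000000000000000000000006c15000000000000000000000000000000000000000000000000000000000000000000000000000000000000000000000000000000000000000000000000000000000000000000000000000000000000681403c0000000000000000000000000000000000000000000000000000000000000000000000000000000000000000000000000000000000000000000000000000000000000000000000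0000000000064130380a000000000000000000000000000000000000000000000000000000000000000000000000000000000000000000000000000000000000000000000000000000000000000000000000000000060120340901800000000000000000000000000000000000000000000000000000000000000000000000000000000000000000000000000000000000000000000000000000000000000000000000000005c11030080140300000000000000000000000000000000000000000000000000000000000000000000000000000000000000000000000000000000000000000000000000000000000000000000000000581002c0701002004000000000000000000000000000000000000000000000000000000000000000000000000000000000000000000000000000000000000000000000000000000000000000000000000000000000000000000) (Nat.mul (nat_lit 10) i)) (nat_lit 1023)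
def Ru_t1 : TN := (TN.node (TN.node (TN.node (TN.node (TN.leaf (nat_lit 0)) (TN.leaf (nat_lit 0x80440000000002040c2))) (TN.leaf (nat_lit 0x46000000000046082))) (TN.node (TN.node (TN.leaf (nat_lit 0x84000000000084082)) (TN.leaf (nat_lit 0x90410c31040000000002431c2))) (TN.leaf (nat_lit 0x10c70000000000c70c2)))) (TN.node (TN.node (TN.node (TN.leaf (nat_lit 0x43000000000043082)) (TN.leaf (nat_lit 0x241084187000000000247182))) (TN.leaf (nat_lit 0x44146000000000146102))) (TN.node (TN.leaf (nat_lit 0x85000000000085082)) (TN.leaf (nat_lit 0x410000000071c7083)))))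
def Ru_t2 : TN := (TN.node (TN.node (TN.node (TN.node (TN.leaf (nat_lit 0x42000000000042082)) (TN.leaf (nat_lit 0x80420000000002020c2))) (TN.leaf (nat_lit 0x410820c60000000000c6182))) (TN.node (TN.node (TN.leaf (nat_lit 0x4104003)) (TN.leaf (nat_lit 0x241042000000000241102))) (TN.leaf (nat_lit 0x42084147000000000147182)))) (TN.node (TN.node (TN.node (TN.leaf (nat_lit 0x30c3003)) (TN.leaf (nat_lit 0x90420c3106187000000000245242))) (TN.leaf (nat_lit 0x47000000000047082))) (TN.node (TN.leaf (nat_lit 0x1042105000000000105142)) (TN.leaf (nat_lit 0x2020c4106000000000206182)))))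
def Ru_t3 : TN := (TN.node Ru_t1 Ru_t2)
def Ru_t4 : TN := (TN.node (TN.node (TN.node (TN.node (TN.leaf (nat_lit 0x1041003)) (TN.leaf (nat_lit 0x2010430c4000000000203182))) (TN.leaf (nat_lit 0x86000000000086082))) (TN.node (TN.node (TN.leaf (nat_lit 0xc40000000000c4082)) (TN.leaf (nat_lit 0x242000000000242082))) (TN.leaf (nat_lit 0x41082107000000000107182)))) (TN.node (TN.node (TN.node (TN.leaf (nat_lit 0x83000000000083082)) (TN.leaf (nat_lit 0x90841051870000000002461c2))) (TN.leaf (nat_lit 0x10820000000061860c3))) (TN.node (TN.leaf (nat_lit 0x410820c50000000000c5182)) (TN.leaf (nat_lit 0x2010431041451861c7000000000207302)))))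
def Ru_t5 : TN := (TN.node (TN.node (TN.node (TN.node (TN.leaf (nat_lit 0x2082003)) (TN.leaf (nat_lit 0x80410000000002010c2))) (TN.leaf (nat_lit 0x1042106000000000106142))) (TN.node (TN.leaf (nat_lit 0x45000000000045082)) (TN.leaf (nat_lit 0x10420830c4187000000000187242)))) (TN.node (TN.node (TN.node (TN.leaf (nat_lit 0x44000000000044082)) (TN.leaf (nat_lit 0x2410830c4000000000244182))) (TN.leaf (nat_lit 0x87000000000087082))) (TN.node (TN.leaf (nat_lit 0x5145003)) (TN.leaf (nat_lit 0x8042105000000000205142)))))
def Ru_t6 : TN := (TN.node Ru_t4 Ru_t5)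
def Ru_t : TN := (TN.node Ru_t3 Ru_t6)
noncomputable def Ru (i : ℕ) : ℕ := TN.get Ru_t i
def D_t1 : TN := (TN.node (TN.node (TN.node (TN.node (TN.leaf (nat_lit 0x30000000000000001)) (TN.leaf (nat_lit 0x3000000000000000000000000000000000000000000000000000000000000000000000000000000000000000000000000000000000000000000000000000000000000000000000000000000000000000000000000000000000000000100000003000000000000000300000001000000000000000600000000000000000000000200000021))) (TN.node (TN.leaf (nat_lit 0x300000000000000000000000000000000000000000000000000000000000000000000000000000000000000000000000000000000000000000000000000000000000000000000000000000000000000000000000000000000000000000000000000000000000000000000000000000000000000000000000000000000000000030000000100000011)) (TN.leaf (nat_lit 0x8000000000000000000000000000000000000000000000000000000000000000000000000000000000000000000000000000000000000000000000000000000000000000200000001000000000000000200000000000000000000000200000002000000010000000200000000000000000000000000000000000000000000000000000002000000020000000300000000000000030000000200000003000000020000000400000031))))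 (TN.node (TN.node (TN.leaf (nat_lit 0x30000000000000000000000000000000000000000000000000000000000000000000000000000000000000000000000000000000000000000000000000000000000000000000000000000000000000000000000000000000000000000000000000000000000000000000000000000000000000000000000000000000000000000000000000000000000000000000000000000000000000000000000000000000000000009)) (TN.leaf (nat_lit 0x3000000000000000000000000000000000000000000000000000000000000000000000000000000000000000000000000000000000000000000000000000000000000000000000000000000000000000000000000000000000000000000000000000000000000000000000000000000000000000000000003000000030000000300000002000000060000000600000001000000030000000100000029))) (TN.node (TN.leaf (nat_lit 0x10000000000000000000000000000000000000000000000000000000000000000000000010000000000000000000000000000000000000000000000080000000000000019)) (TN.leaf (nat_lit 0x70000000700000007000000080000000000000000000000000000000000000001000000000000000200000001000000020000000100000000000000070000000000000003000000020000000700000000000000010000000400000007000000080000000800000001000000050000000400000000000000040000000500000007000000070000000400000039)))))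 (TN.node (TN.node (TN.node (TN.leaf (nat_lit 0x30000000000000000000000000000000000000005)) (TN.leaf (nat_lit 0x70000000800000000000000000000000000000000000000000000000000000000000000000000000000000000000000000000000000000000000000000000000000000000000000000000000000000000000000000000000000000000000000010000000000000000000000000000000800000000000000000000000000000000000000070000000800000025))) (TN.node (TN.leaf (nat_lit 0x100000000000000000000000000000000000000000000000000000015)) (TN.leaf (nat_lit 0x7000000000000000000000000000000000000000000000003000000000000000000000000000000000000000000000000000000000000000000000003000000000000000100000002000000010000000300000001000000000000000500000004000000040000000600000000000000000000000000000000000000000000000200000006000000000000000000000002000000060000000200000008000000070000000100000035)))) (TN.node (TN.node (TN.leaf (nat_lit 0x6000000000000000000000000000000000000000000000000000000000000000000000000000000000000000000000000000000000000000000000000000000000000000d)) (TN.leaf (nat_lit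 0x7000000070000000000000000000000000000000000000000000000000000000000000000000000000000000000000000000000000000000000000000000000010000000100000000000000020000000000000000000000000000000000000000000000000000000300000003000000040000000000000001000000050000000100000006000000000000002d))) (TN.leaf (nat_lit 0x100000000000000010000000000000000000000070000000000000000000000000000001d)))))
def D_t2 : TN := (TN.node (TN.node (TN.node (TN.node (TN.leaf (nat_lit 0x300000000000000000000000000000000000000000000000000000003)) (TN.leaf (nat_lit 0x6000000000000000000000000000000000000000000000000000000000000000000000000000000000000000000000000000000060000000600000007000000030000000700000023))) (TN.node (TN.leaf (nat_lit 0x20000000100000000000000000000000000000000000000000000000000000000000000000000000000000000000000000000000000000000000000000000000000000013)) (TN.leaf (nat_lit 0x7000000080000000000000000000000000000000000000000000000000000000000000000000000000000000000000000000000000000000000000000000000000000000100000002000000010000000100000000000000000000000000000002000000000000000200000000000000010000000200000002000000020000000000000004000000010000000400000000000000040000000800000003000000040000000400000033))))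 (TN.node (TN.node (TN.leaf (nat_lit 0x60000000000000000000000000000000000000000000000000000000000000000000000000000000000000000000000000000000000000000000000000000000b)) (TN.leaf (nat_lit 0x7000000070000000000000000000000000000000000000000000000000000000000000000000000000000000000000000000000000000000000000000000000000000000000000000000000000000000000000001000000010000000000000002000000000000000200000001000000010000000000000008000000010000000100000007000000000000002b))) (TN.node (TN.leaf (nat_lit 0x1000000000000000000000001000000010000000000000000000000000000000000000000000000000000001b)) (TN.leaf (nat_lit 0x7000000000000000000000000000000000000000000000003000000010000000600000006000000030000000400000004000000040000000200000006000000050000000800000000000000030000000200000005000000030000000700000000000000080000000200000003000000060000000500000008000000040000000400000004000000040000003b))))) (TN.node (TN.node (TN.node (TN.leaf (nat_lit 0x3000000000000000000000000000000000000000000000000000000000000000000000000000000000000000000000007))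 (TN.leaf (nat_lit 0x60000000000000000000000000000000000000000000000060000000000000008000000070000000800000000000000070000000500000000000000000000000000000008000000060000000600000027))) (TN.node (TN.leaf (nat_lit 0x80000000000000000000000000000000000000000000000010000000000000017)) (TN.leaf (nat_lit 0x8000000070000000000000008000000000000000000000000000000000000000000000000000000000000000000000000000000000000000000000001000000080000000000000002000000000000000000000000000000000000000600000007000000070000000800000000000000000000000000000000000000000000000000000007000000040000000500000000000000060000000700000006000000010000000600000037)))) (TN.node (TN.node (TN.leaf (nat_lit 0x20000000000000000000000000000000000000000000000000000000000000000000000000000000000000000000000000000000000000000000000000000000000000000000000000000000000000000000000000000000f)) (TN.leaf (nat_lit 0x10000000000000000000000010000000000000000000000080000000000000007000000080000000000000001000000020000000200000002000000000000000400000001000000000000000000000001000000010000000200000007000000020000002f)))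 (TN.leaf (nat_lit 0x1000000000000000000000000000000000000000000000002000000000000000000000000000000000000000800000000000000000000000000000001000000000000000000000002000000000000000000000008000000000000001f)))))
def D_t3 : TN := (TN.node D_t1 D_t2)
def D_t4 : TN := (TN.node (TN.node (TN.node (TN.node (TN.leaf (nat_lit 0x300000000000000000000000000000002)) (TN.leaf (nat_lit 0x600000000000000000000000000000000000000000000000000000000000000000000000000000000000000060000000600000000000000000000000000000008000000060000000700000022))) (TN.node (TN.leaf (nat_lit 0x30000000000000000000000000000000000000000000000000000000000000000000000000000000000000000000000000000000000000000000000000000000000000000000000000000000000000000000000020000000000000012)) (TN.leaf (nat_lit 0x7000000070000000000000000000000000000000000000000000000000000000000000000000000000000000000000000000000000000000000000000000000000000000000000002000000010000000100000000000000000000000100000002000000000000000200000000000000000000000000000000000000000000000000000002000000010000000100000000000000030000000300000001000000010000000200000032))))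 (TN.node (TN.node (TN.leaf (nat_lit 0x3000000000000000000000000000000000000000000000000000000000000000000000000000000000000000000000000000000000000000000000000000000000000000000000000000000000000000000000000000000000000000000000000000000000000000000000000000000000000000000000000000000000000000000000000000000010000000a)) (TN.leaf (nat_lit 0x6000000000000000000000000000000000000000000000000000000000000000000000000000000000000000000000006000000000000000500000007000000080000000000000007000000050000000000000000000000000000000600000006000000060000002a))) (TN.node (TN.leaf (nat_lit 0x2000000000000000000000008000000000000001a)) (TN.leaf (nat_lit 0x800000007000000000000000000000000000000030000000000000000000000000000000000000000000000000000000000000000000000010000000300000003000000030000000200000003000000010000000000000003000000040000000400000006000000040000000100000007000000060000000800000008000000050000000600000001000000060000000200000001000000080000000800000008000000030000003a))))) (TN.node (TN.node (TN.node (TN.leaf (nat_lit 0x30000000000000000000000000000000000000000000000000000000000000006))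 (TN.leaf (nat_lit 0x300000000000000000000000000000000000000000000000000000000000000000000000000000000000000000000000000000000000000000000000000000000000000000000000000000000000000000000000000000000000000000000000000000000000000000000000000000000000000000000000200000006000000000000000600000001000000000000000600000000000000000000000200000026))) (TN.node (TN.leaf (nat_lit 0x6000000000000000000000000000000000000000000000000000000000000000000000000000000000000000000000000000000000000000000000000000000000000000000000000000000000000000600000000000000000000000800000016)) (TN.leaf (nat_lit 0x30000000000000000000000000000000000000000000000000000000000000000000000000000000100000003000000000000000200000004000000010000000300000002000000000000000500000004000000070000000700000008000000000000000000000000000000000000000200000006000000010000000300000004000000020000000400000001000000070000000400000036)))) (TN.node (TN.node (TN.leaf (nat_lit 0x6000000000000000000000000000000000000000000000000000000000000000000000000000000000000000000000000000000000000000000000000000000000000000000000000000000000000000000000000000000000000000e))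 (TN.leaf (nat_lit 0x300000000000000030000000300000002000000040000000000000000000000000000000000000000000000020000000000000000000000000000000000000000000000010000000600000005000000050000000200000002000000000000000400000001000000050000002e))) (TN.leaf (nat_lit 0x3000000000000000300000003000000000000000000000000000000000000000000000000000000000000000100000006000000020000001e)))))
def D_t5 : TN := (TN.node (TN.node (TN.node (TN.node (TN.leaf (nat_lit 0x30000000000000000000000000000000000000000000000000000000000000000000000000000000000000004)) (TN.leaf (nat_lit 0x600000000000000000000000000000000000000000000000000000000000000000000000000000000000000000000000000000000000000000000000000000000000000060000000600000000000000000000000000000007000000030000000700000024))) (TN.node (TN.leaf (nat_lit 0x3000000000000000000000000000000000000000000000000000000000000000000000000000000000000000000000000000000000000000000000000000000000000000000000000000000000000000000000000000000000000000000000000000000000000000000000000000000000000000000000000000000000000000000000000000000000000000000000000000000000000000000000001000000030000000100000014))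 (TN.leaf (nat_lit 0x80000000700000000000000080000000000000000000000000000000000000000000000010000000300000000000000030000000200000000000000020000000100000000000000040000000100000000000000020000000800000002000000010000000100000007000000050000000300000000000000080000000800000003000000080000000300000034)))) (TN.node (TN.node (TN.leaf (nat_lit 0x60000000000000000000000000000000000000000000000000000000000000000000000000000000000000000000000000000000000000000000000000000000000000000000000000000000000000000000000000000000c)) (TN.leaf (nat_lit 0x8000000000000000000000008000000000000000000000000000000000000000000000000000000000000000000000000000000000000000000000000000000010000000000000001000000010000000000000007000000080000000800000000000000000000000700000001000000000000000000000000000000000000000800000007000000070000002c))) (TN.node (TN.leaf (nat_lit 0x1000000000000000000000000000000000000000000000000000000000000000000000000000000000000000100000000000000000000000000000002000000000000000000000000000000000000000000000000000000000000001c))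 (TN.leaf (nat_lit 0x1000000000000000000000000000000000000000000000000000000000000000000000000000000080000000500000000000000000000000000000000000000000000000000000000000000000000000000000000000000000000000000000000))))) (TN.node (TN.node (TN.node (TN.leaf (nat_lit 0x3000000000000000000000000000000000000000000000000000000000000000000000008)) (TN.leaf (nat_lit 0x300000000000000000000000000000000000000000000000000000000000000000000000000000000000000000000000000000000000000000000000000000000000000030000000000000001000000020000000100000000000000050000000400000000000000000000000000000002000000060000000300000028))) (TN.node (TN.leaf (nat_lit 0x3000000000000000300000000000000000000000000000000000000000000000000000000000000000000000000000000000000000000000000000000000000000000000000000000000000000000000200000000000000000000000100000018)) (TN.leaf (nat_lit 0x7000000070000000700000008000000000000000000000000000000000000000000000000000000000000000000000000000000000000000000000008000000010000000100000000000000000000000800000000000000010000000800000000000000000000000800000000000000080000000000000000000000010000000800000007000000010000000800000007000000010000000100000008000000050000000600000038))))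 (TN.node (TN.node (TN.leaf (nat_lit 0x30000000000000000000000000000000000000000000000000000000000000000000000000000000000000000000000000000000000000000000000000000000000000000000000000000000000000000000000000000000000000000000000000000000300000000000000000000000000000000000000000000000100000010)) (TN.leaf (nat_lit 0x80000000700000000000000000000000000000003000000000000000000000000000000000000000000000000000000000000000000000000000000000000000300000003000000010000000000000000000000000000000000000000000000000000000200000006000000000000000500000001000000070000000400000004000000000000000300000030))) (TN.leaf (nat_lit 0x300000003000000030000000000000000000000000000000000000000000000000000000000000002000000060000000200000020)))))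
def D_t6 : TN := (TN.node D_t4 D_t5)
def D_t : TN := (TN.node D_t3 D_t6)
noncomputable def D (i : ℕ) : ℕ := TN.get D_t i
def La_t1 : TN := (TN.node (TN.node (TN.node (TN.node (TN.leaf (nat_lit 0x6000000000006000000000000000600000300030600030300060000000000000008000000000000000000)) (TN.leaf (nat_lit 0x6000006080306000500010000050000000000000000000000000000000000))) (TN.node (TN.leaf (nat_lit 0x60000000000000000000000000000000006000000000006000000000000000600000300070600030300060000030000000005000000000000000000)) (TN.leaf (nat_lit 0x40000000000000000000000000000)))) (TN.node (TN.node (TN.leaf (nat_lit 0x3000003000603000300000000040000000000000000000000000000000000)) (TN.leaf (nat_lit 0x2000200000008000000000000000000000000000000000000))) (TN.leaf (nat_lit 0x80000000000000000000000000000000000000000)))) (TN.node (TN.node (TN.node (TN.leaf (nat_lit 0)) (TN.leaf (nat_lit 0))) (TN.node (TN.leaf (nat_lit 0)) (TN.leaf (nat_lit 0)))) (TN.node (TN.node (TN.leaf (nat_lit 0)) (TN.leaf (nat_lit 0))) (TN.leaf (nat_lit 0)))))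
def La_t2 : TN := (TN.node (TN.node (TN.node (TN.node (TN.leaf (nat_lit 0)) (TN.leaf (nat_lit 0))) (TN.node (TN.leaf (nat_lit 0)) (TN.leaf (nat_lit 0)))) (TN.node (TN.node (TN.leaf (nat_lit 0)) (TN.leaf (nat_lit 0))) (TN.leaf (nat_lit 0)))) (TN.node (TN.node (TN.node (TN.leaf (nat_lit 0)) (TN.leaf (nat_lit 0))) (TN.node (TN.leaf (nat_lit 0)) (TN.leaf (nat_lit 0)))) (TN.node (TN.node (TN.leaf (nat_lit 0)) (TN.leaf (nat_lit 0))) (TN.leaf (nat_lit 0)))))
def La_t3 : TN := (TN.node La_t1 La_t2)
def La_t4 : TN := (TN.node (TN.node (TN.node (TN.node (TN.leaf (nat_lit 0)) (TN.leaf (nat_lit 0x801030000000203080401000000060308000000000005000000080008000103000305080000050703080000020000000004000000000000000000))) (TN.node (TN.leaf (nat_lit 0)) (TN.leaf (nat_lit 0x30000030603000005060603000600030102000000000101030000020006000806080800050300010806060000040000000002000000000000000000)))) (TN.node (TN.node (TN.leaf (nat_lit 0)) (TN.leaf (nat_lit 0))) (TN.leaf (nat_lit 0)))) (TN.node (TN.node (TN.node (TN.leaf (nat_lit 0)) (TN.leaf (nat_lit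 0))) (TN.node (TN.leaf (nat_lit 0)) (TN.leaf (nat_lit 0)))) (TN.node (TN.node (TN.leaf (nat_lit 0)) (TN.leaf (nat_lit 0))) (TN.leaf (nat_lit 0)))))
def La_t5 : TN := (TN.node (TN.node (TN.node (TN.node (TN.leaf (nat_lit 0)) (TN.leaf (nat_lit 0))) (TN.node (TN.leaf (nat_lit 0)) (TN.leaf (nat_lit 0)))) (TN.node (TN.node (TN.leaf (nat_lit 0)) (TN.leaf (nat_lit 0))) (TN.leaf (nat_lit 0)))) (TN.node (TN.node (TN.node (TN.leaf (nat_lit 0)) (TN.leaf (nat_lit 0))) (TN.node (TN.leaf (nat_lit 0)) (TN.leaf (nat_lit 0)))) (TN.node (TN.node (TN.leaf (nat_lit 0)) (TN.leaf (nat_lit 0))) (TN.leaf (nat_lit 0)))))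
def La_t6 : TN := (TN.node La_t4 La_t5)
def La_t7 : TN := (TN.node La_t3 La_t6)
def La_t8 : TN := (TN.node (TN.node (TN.node (TN.node (TN.leaf (nat_lit 0)) (TN.leaf (nat_lit 0))) (TN.node (TN.leaf (nat_lit 0x30000060603000006000003000300000603000000000406030000070003000303030303060300000306060000030000000005000000000000000000)) (TN.leaf (nat_lit 0x80000000000000000000000000000000000000000000000000000000000000000000000000000000000000000000000000000000000000000000000)))) (TN.node (TN.node (TN.leaf (nat_lit 0)) (TN.leaf (nat_lit 0x60000000000000000050204000500040005000000000000000000000005000703060101010100040602040000020000000006000000000000000000))) (TN.leaf (nat_lit 0x30000000000000000000000000000000003000000000003000000000000000200000600050300070600030000060000000001000000000000000000)))) (TN.node (TN.node (TN.node (TN.leaf (nat_lit 0)) (TN.leaf (nat_lit 0))) (TN.node (TN.leaf (nat_lit 0)) (TN.leaf (nat_lit 0)))) (TN.node (TN.node (TN.leaf (nat_lit 0)) (TN.leaf (nat_lit 0))) (TN.leaf (nat_lit 0)))))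
def La_t9 : TN := (TN.node (TN.node (TN.node (TN.node (TN.leaf (nat_lit 0)) (TN.leaf (nat_lit 0))) (TN.node (TN.leaf (nat_lit 0)) (TN.leaf (nat_lit 0)))) (TN.node (TN.node (TN.leaf (nat_lit 0)) (TN.leaf (nat_lit 0))) (TN.leaf (nat_lit 0)))) (TN.node (TN.node (TN.node (TN.leaf (nat_lit 0)) (TN.leaf (nat_lit 0))) (TN.node (TN.leaf (nat_lit 0)) (TN.leaf (nat_lit 0)))) (TN.node (TN.node (TN.leaf (nat_lit 0)) (TN.leaf (nat_lit 0))) (TN.leaf (nat_lit 0)))))
def La_t10 : TN := (TN.node La_t8 La_t9)
def La_t11 : TN := (TN.node (TN.node (TN.node (TN.node (TN.leaf (nat_lit 0)) (TN.leaf (nat_lit 0))) (TN.node (TN.leaf (nat_lit 0)) (TN.leaf (nat_lit 0x10707000000030700070301000800070000000000000004000000060006000206000103000300000504060000070000000000000000000000000000)))) (TN.node (TN.node (TN.leaf (nat_lit 0)) (TN.leaf (nat_lit 0))) (TN.leaf (nat_lit 0)))) (TN.node (TN.node (TN.node (TN.leaf (nat_lit 0)) (TN.leaf (nat_lit 0))) (TN.node (TN.leaf (nat_lit 0)) (TN.leaf (nat_lit 0)))) (TN.node (TN.node (TN.leaf (nat_lit 0)) (TN.leaf (nat_lit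 0))) (TN.leaf (nat_lit 0)))))
def La_t12 : TN := (TN.node (TN.node (TN.node (TN.node (TN.leaf (nat_lit 0)) (TN.leaf (nat_lit 0))) (TN.node (TN.leaf (nat_lit 0)) (TN.leaf (nat_lit 0)))) (TN.node (TN.node (TN.leaf (nat_lit 0)) (TN.leaf (nat_lit 0))) (TN.leaf (nat_lit 0)))) (TN.node (TN.node (TN.node (TN.leaf (nat_lit 0)) (TN.leaf (nat_lit 0))) (TN.node (TN.leaf (nat_lit 0)) (TN.leaf (nat_lit 0)))) (TN.node (TN.node (TN.leaf (nat_lit 0)) (TN.leaf (nat_lit 0))) (TN.leaf (nat_lit 0)))))
def La_t13 : TN := (TN.node La_t11 La_t12)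
def La_t14 : TN := (TN.node La_t10 La_t13)
def La_t15 : TN := (TN.node La_t7 La_t14)
def La_t16 : TN := (TN.node (TN.node (TN.node (TN.node (TN.leaf (nat_lit 0)) (TN.leaf (nat_lit 0x8000007000102000600000000070000000000000000000000000000000000))) (TN.node (TN.leaf (nat_lit 0x6000006000706000600000000020000000000000000000000000000000000)) (TN.leaf (nat_lit 0x4000004000501000400000000030000000000000000000000000000000000)))) (TN.node (TN.node (TN.leaf (nat_lit 0x30000000000000000030303000000000003000000000003000000000000000603030006030300030200030000030000000004000000000000000000)) (TN.leaf (nat_lit 0x8000800000000000000000000000000000000000000000000))) (TN.leaf (nat_lit 0x3000003000603000400000000040000000000000000000000000000000000)))) (TN.node (TN.node (TN.node (TN.leaf (nat_lit 0)) (TN.leaf (nat_lit 0))) (TN.node (TN.leaf (nat_lit 0)) (TN.leaf (nat_lit 0)))) (TN.node (TN.node (TN.leaf (nat_lit 0)) (TN.leaf (nat_lit 0))) (TN.leaf (nat_lit 0)))))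
def La_t17 : TN := (TN.node (TN.node (TN.node (TN.node (TN.leaf (nat_lit 0)) (TN.leaf (nat_lit 0))) (TN.node (TN.leaf (nat_lit 0)) (TN.leaf (nat_lit 0)))) (TN.node (TN.node (TN.leaf (nat_lit 0)) (TN.leaf (nat_lit 0))) (TN.leaf (nat_lit 0)))) (TN.node (TN.node (TN.node (TN.leaf (nat_lit 0)) (TN.leaf (nat_lit 0))) (TN.node (TN.leaf (nat_lit 0)) (TN.leaf (nat_lit 0)))) (TN.node (TN.node (TN.leaf (nat_lit 0)) (TN.leaf (nat_lit 0))) (TN.leaf (nat_lit 0)))))
def La_t18 : TN := (TN.node La_t16 La_t17)
def La_t19 : TN := (TN.node (TN.node (TN.node (TN.node (TN.leaf (nat_lit 0)) (TN.leaf (nat_lit 0))) (TN.node (TN.leaf (nat_lit 0)) (TN.leaf (nat_lit 0)))) (TN.node (TN.node (TN.leaf (nat_lit 0)) (TN.leaf (nat_lit 0x30000030000000800050203000200020601000000000306000000080004000802080108080400040502030000030000000004000000000000000000))) (TN.leaf (nat_lit 0)))) (TN.node (TN.node (TN.node (TN.leaf (nat_lit 0)) (TN.leaf (nat_lit 0))) (TN.node (TN.leaf (nat_lit 0)) (TN.leaf (nat_lit 0)))) (TN.node (TN.node (TN.leaf (nat_lit 0)) (TN.leaf (nat_lit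 0))) (TN.leaf (nat_lit 0)))))
def La_t20 : TN := (TN.node (TN.node (TN.node (TN.node (TN.leaf (nat_lit 0)) (TN.leaf (nat_lit 0))) (TN.node (TN.leaf (nat_lit 0)) (TN.leaf (nat_lit 0)))) (TN.node (TN.node (TN.leaf (nat_lit 0)) (TN.leaf (nat_lit 0))) (TN.leaf (nat_lit 0)))) (TN.node (TN.node (TN.node (TN.leaf (nat_lit 0)) (TN.leaf (nat_lit 0))) (TN.node (TN.leaf (nat_lit 0)) (TN.leaf (nat_lit 0)))) (TN.node (TN.node (TN.leaf (nat_lit 0)) (TN.leaf (nat_lit 0))) (TN.leaf (nat_lit 0)))))
def La_t21 : TN := (TN.node La_t19 La_t20)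
def La_t22 : TN := (TN.node La_t18 La_t21)
def La_t23 : TN := (TN.node (TN.node (TN.node (TN.node (TN.leaf (nat_lit 0)) (TN.leaf (nat_lit 0))) (TN.node (TN.leaf (nat_lit 0)) (TN.leaf (nat_lit 0x60000000000000000070108000300040005000000000000000000000006000104060606080700000208030000060000000003000000000000000000)))) (TN.node (TN.node (TN.leaf (nat_lit 0)) (TN.leaf (nat_lit 0x30000000000000000040705000400040005000000000000000000000001000303010301020600000300070000070000000000000000000000000000))) (TN.leaf (nat_lit 0x30000060306000003030303000300030000000000000803060000070003000306030300060600030606060000060000000003000000000000000000)))) (TN.node (TN.node (TN.node (TN.leaf (nat_lit 0)) (TN.leaf (nat_lit 0))) (TN.node (TN.leaf (nat_lit 0)) (TN.leaf (nat_lit 0)))) (TN.node (TN.node (TN.leaf (nat_lit 0)) (TN.leaf (nat_lit 0))) (TN.leaf (nat_lit 0)))))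
def La_t24 : TN := (TN.node (TN.node (TN.node (TN.node (TN.leaf (nat_lit 0)) (TN.leaf (nat_lit 0))) (TN.node (TN.leaf (nat_lit 0)) (TN.leaf (nat_lit 0)))) (TN.node (TN.node (TN.leaf (nat_lit 0)) (TN.leaf (nat_lit 0))) (TN.leaf (nat_lit 0)))) (TN.node (TN.node (TN.node (TN.leaf (nat_lit 0)) (TN.leaf (nat_lit 0))) (TN.node (TN.leaf (nat_lit 0)) (TN.leaf (nat_lit 0)))) (TN.node (TN.node (TN.leaf (nat_lit 0)) (TN.leaf (nat_lit 0))) (TN.leaf (nat_lit 0)))))
def La_t25 : TN := (TN.node La_t23 La_t24)
def La_t26 : TN := (TN.node (TN.node (TN.node (TN.node (TN.leaf (nat_lit 0)) (TN.leaf (nat_lit 0))) (TN.node (TN.leaf (nat_lit 0)) (TN.leaf (nat_lit 0)))) (TN.node (TN.node (TN.leaf (nat_lit 0)) (TN.leaf (nat_lit 0))) (TN.leaf (nat_lit 0)))) (TN.node (TN.node (TN.node (TN.leaf (nat_lit 0)) (TN.leaf (nat_lit 0))) (TN.node (TN.leaf (nat_lit 0)) (TN.leaf (nat_lit 0)))) (TN.node (TN.node (TN.leaf (nat_lit 0)) (TN.leaf (nat_lit 0))) (TN.leaf (nat_lit 0)))))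
def La_t27 : TN := (TN.node (TN.node (TN.node (TN.node (TN.leaf (nat_lit 0)) (TN.leaf (nat_lit 0))) (TN.node (TN.leaf (nat_lit 0)) (TN.leaf (nat_lit 0)))) (TN.node (TN.node (TN.leaf (nat_lit 0)) (TN.leaf (nat_lit 0))) (TN.leaf (nat_lit 0)))) (TN.node (TN.node (TN.node (TN.leaf (nat_lit 0)) (TN.leaf (nat_lit 0))) (TN.node (TN.leaf (nat_lit 0)) (TN.leaf (nat_lit 0)))) (TN.node (TN.node (TN.leaf (nat_lit 0)) (TN.leaf (nat_lit 0))) (TN.leaf (nat_lit 0)))))
def La_t28 : TN := (TN.node La_t26 La_t27)
def La_t29 : TN := (TN.node La_t25 La_t28)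
def La_t30 : TN := (TN.node La_t22 La_t29)
def La_t : TN := (TN.node La_t15 La_t30)
noncomputable def La (i : ℕ) : ℕ := TN.get La_t i
def Le_t : TN := (TN.leaf (nat_lit 0x60600000003000303000300060003000800000400000000010006000306030306030000030103060000000000000002000000000000000000))
noncomputable def Le (i : ℕ) : ℕ := TN.get Le_t i
def C_t1 : TN := (TN.node (TN.node (TN.node (TN.node (TN.leaf (nat_lit 0)) (TN.leaf (nat_lit 0))) (TN.node (TN.leaf (nat_lit 0)) (TN.leaf (nat_lit 0)))) (TN.node (TN.node (TN.leaf (nat_lit 0)) (TN.leaf (nat_lit 0))) (TN.node (TN.leaf (nat_lit 0)) (TN.leaf (nat_lit 0))))) (TN.node (TN.node (TN.node (TN.leaf (nat_lit 0x10000000000000000000000000000000000000000000000080000000500000000000000000000000000000000000000000000000000000000000000000000000000000000000000000000000000000000)) (TN.leaf (nat_lit 0))) (TN.node (TN.leaf (nat_lit 0)) (TN.leaf (nat_lit 0)))) (TN.node (TN.node (TN.leaf (nat_lit 0)) (TN.leaf (nat_lit 0))) (TN.node (TN.leaf (nat_lit 0)) (TN.leaf (nat_lit 0))))))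
def C_t2 : TN := (TN.node (TN.node (TN.node (TN.node (TN.leaf (nat_lit 0x80000000100000000000000000000000000000000000000000000000000000000000000000000000000000000000000000000000000000000)) (TN.leaf (nat_lit 0))) (TN.node (TN.leaf (nat_lit 0)) (TN.leaf (nat_lit 0)))) (TN.node (TN.node (TN.leaf (nat_lit 0)) (TN.leaf (nat_lit 0))) (TN.node (TN.leaf (nat_lit 0)) (TN.leaf (nat_lit 0))))) (TN.node (TN.node (TN.node (TN.leaf (nat_lit 0x7000000000000000000000000000000000000000000000000000000000000000000000000000000000000000000000000000000000000000000000000000000080000000000000000000000000000000000000000000000070000000800000000000000000000000000000000000000000000000000000000000000000000000000000000000000000000000000000000)) (TN.leaf (nat_lit 0))) (TN.node (TN.leaf (nat_lit 0)) (TN.leaf (nat_lit 0)))) (TN.node (TN.node (TN.leaf (nat_lit 0)) (TN.leaf (nat_lit 0))) (TN.node (TN.leaf (nat_lit 0)) (TN.leaf (nat_lit 0))))))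
def C_t3 : TN := (TN.node C_t1 C_t2)
def C_t4 : TN := (TN.node (TN.node (TN.node (TN.node (TN.leaf (nat_lit 0x10000000400000000000000000000000000000000000000000000000000000000000000000000000000000000000000000000000000000000)) (TN.leaf (nat_lit 0))) (TN.node (TN.leaf (nat_lit 0)) (TN.leaf (nat_lit 0)))) (TN.node (TN.node (TN.leaf (nat_lit 0)) (TN.leaf (nat_lit 0))) (TN.node (TN.leaf (nat_lit 0)) (TN.leaf (nat_lit 0))))) (TN.node (TN.node (TN.node (TN.leaf (nat_lit 0x800000007000000000000000000000000000000000000000000000000000000070000000000000004000000000000000000000000000000000000000000000000000000040000000000000000000000000000000000000000000000020000000400000000000000000000000000000000000000000000000000000000000000000000000000000000000000000000000000000000)) (TN.leaf (nat_lit 0))) (TN.node (TN.leaf (nat_lit 0)) (TN.leaf (nat_lit 0)))) (TN.node (TN.node (TN.leaf (nat_lit 0)) (TN.leaf (nat_lit 0))) (TN.node (TN.leaf (nat_lit 0)) (TN.leaf (nat_lit 0))))))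
def C_t5 : TN := (TN.node (TN.node (TN.node (TN.node (TN.leaf (nat_lit 0x5000000000000000000000000000000000000000000000000000000040000000000000000000000000000000000000000000000050000000600000000000000000000000000000000000000000000000000000000000000000000000000000000000000000000000000000000)) (TN.leaf (nat_lit 0))) (TN.node (TN.leaf (nat_lit 0)) (TN.leaf (nat_lit 0)))) (TN.node (TN.node (TN.leaf (nat_lit 0)) (TN.leaf (nat_lit 0))) (TN.node (TN.leaf (nat_lit 0)) (TN.leaf (nat_lit 0))))) (TN.node (TN.node (TN.node (TN.leaf (nat_lit 0x800000008000000000000000000000000000000000000000000000000000000080000000000000008000000000000000000000000000000000000000000000000000000000000000000000000000000000000000000000000000000010000000000000000000000000000000000000000000000000000000000000000000000000000000000000000000000000000000000000000)) (TN.leaf (nat_lit 0))) (TN.node (TN.leaf (nat_lit 0)) (TN.leaf (nat_lit 0)))) (TN.node (TN.node (TN.leaf (nat_lit 0)) (TN.leaf (nat_lit 0))) (TN.node (TN.leaf (nat_lit 0)) (TN.leaf (nat_lit 0))))))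
def C_t6 : TN := (TN.node C_t4 C_t5)
def C_t : TN := (TN.node C_t3 C_t6)
noncomputable def C (i : ℕ) : ℕ := TN.get C_t i
def e (i : ℕ) : ℕ := Nat.land (Nat.shiftRight (nat_lit 3) (Nat.mul (nat_lit 2) i)) (nat_lit 3)
def U_t : TL := (TL.node (TL.node (TL.node (TL.node (TL.node (TL.node (TL.leaf [nat_lit 1]) (TL.leaf [nat_lit 8])) (TL.node (TL.leaf [nat_lit 8]) (TL.leaf [nat_lit 9]))) (TL.node (TL.node (TL.leaf [nat_lit 9]) (TL.leaf [nat_lit 9])) (TL.node (TL.leaf [nat_lit 9]) (TL.leaf [nat_lit 8])))) (TL.node (TL.node (TL.node (TL.leaf [nat_lit 2]) (TL.leaf [nat_lit 8])) (TL.node (TL.leaf [nat_lit 8]) (TL.leaf [nat_lit 9]))) (TL.node (TL.node (TL.leaf [nat_lit 2, nat_lit 2]) (TL.leaf [nat_lit 8])) (TL.leaf [nat_lit 8])))) (TL.node (TL.node (TL.node (TL.node (TL.leaf [nat_lit 1]) (TL.leaf [nat_lit 3, nat_lit 3])) (TL.node (TL.leaf [nat_lit 6]) (TL.leaf [nat_lit 9]))) (TL.node (TL.node (TL.leaf [nat_lit 1, nat_lit 1]) (TL.leaf [nat_lit 8])) (TL.node (TL.leaf [nat_lit 8]) (TL.leaf [nat_lit 8])))) (TL.node (TL.node (TL.node (TL.leaf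 [nat_lit 2]) (TL.leaf [nat_lit 5, nat_lit 5])) (TL.node (TL.leaf [nat_lit 2]) (TL.leaf [nat_lit 9]))) (TL.node (TL.node (TL.leaf [nat_lit 7]) (TL.leaf [nat_lit 5])) (TL.leaf [nat_lit 9]))))) (TL.node (TL.node (TL.node (TL.node (TL.node (TL.leaf [nat_lit 1]) (TL.leaf [nat_lit 4, nat_lit 4])) (TL.node (TL.leaf [nat_lit 2]) (TL.leaf [nat_lit 9]))) (TL.node (TL.node (TL.leaf [nat_lit 8]) (TL.leaf [nat_lit 5, nat_lit 5])) (TL.node (TL.leaf [nat_lit 9]) (TL.leaf [nat_lit 9])))) (TL.node (TL.node (TL.node (TL.leaf [nat_lit 2]) (TL.leaf [nat_lit 9])) (TL.node (TL.leaf [nat_lit 3, nat_lit 3]) (TL.leaf [nat_lit 9]))) (TL.node (TL.node (TL.leaf [nat_lit 2, nat_lit 2]) (TL.leaf [nat_lit 6])) (TL.leaf [nat_lit 4])))) (TL.node (TL.node (TL.node (TL.node (TL.leaf [nat_lit 1]) (TL.leaf [nat_lit 4, nat_lit 4])) (TL.node (TL.leaf [nat_lit 9]) (TL.leaf [nat_lit 8]))) (TL.node (TL.node (TL.leaf [nat_lit 1, nat_lit 1]) (TL.leaf [nat_lit 8])) (TL.leaf [nat_lit 9]))) (TL.node (TL.node (TL.node (TL.leaf [nat_lit 3]) (TL.leaf [nat_lit 8])) (TL.node (TL.leaf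 [nat_lit 3]) (TL.leaf [nat_lit 9]))) (TL.node (TL.node (TL.leaf [nat_lit 8]) (TL.leaf [nat_lit 8])) (TL.leaf [nat_lit 3]))))))
noncomputable def U (i : ℕ) : List ℕ := TL.get U_t i
def V1_t : TL := (TL.node (TL.node (TL.node (TL.node (TL.node (TL.node (TL.leaf [nat_lit 2, nat_lit 2, nat_lit 2]) (TL.leaf [nat_lit 3, nat_lit 3, nat_lit 3])) (TL.node (TL.leaf [nat_lit 2, nat_lit 2, nat_lit 2]) (TL.leaf [nat_lit 3, nat_lit 7]))) (TL.node (TL.node (TL.leaf [nat_lit 2, nat_lit 2, nat_lit 2]) (TL.leaf [nat_lit 4, nat_lit 4, nat_lit 4])) (TL.node (TL.leaf [nat_lit 2, nat_lit 7]) (TL.leaf [nat_lit 6, nat_lit 7])))) (TL.node (TL.node (TL.node (TL.leaf [nat_lit 3, nat_lit 3, nat_lit 3]) (TL.leaf [nat_lit 4, nat_lit 5])) (TL.node (TL.leaf [nat_lit 1, nat_lit 4]) (TL.leaf [nat_lit 7, nat_lit 7, nat_lit 7]))) (TL.node (TL.node (TL.leaf [nat_lit 2, nat_lit 6]) (TL.leaf [nat_lit 3, nat_lit 6])) (TL.leaf [nat_lit 3, nat_lit 4])))) (TL.node (TL.node (TL.node (TL.node (TL.leaf [nat_lit 4, nat_lit 4, nat_lit 4]) (TL.leaf [nat_lit 3, nat_lit 6])) (TL.node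 (TL.leaf [nat_lit 6, nat_lit 6, nat_lit 6]) (TL.leaf [nat_lit 4, nat_lit 6]))) (TL.node (TL.node (TL.leaf [nat_lit 1, nat_lit 6]) (TL.leaf [nat_lit 3, nat_lit 5])) (TL.node (TL.leaf [nat_lit 2, nat_lit 5]) (TL.leaf [nat_lit 7, nat_lit 7, nat_lit 7])))) (TL.node (TL.node (TL.node (TL.leaf [nat_lit 5, nat_lit 5, nat_lit 5]) (TL.leaf [nat_lit 5, nat_lit 6])) (TL.node (TL.leaf [nat_lit 5, nat_lit 6]) (TL.leaf [nat_lit 5, nat_lit 7]))) (TL.node (TL.node (TL.leaf [nat_lit 7, nat_lit 7, nat_lit 7]) (TL.leaf [nat_lit 6, nat_lit 7])) (TL.leaf [nat_lit 2, nat_lit 5]))))) (TL.node (TL.node (TL.node (TL.node (TL.node (TL.leaf [nat_lit 3, nat_lit 3, nat_lit 3]) (TL.leaf [nat_lit 4, nat_lit 6])) (TL.node (TL.leaf [nat_lit 7, nat_lit 7, nat_lit 7]) (TL.leaf [nat_lit 4, nat_lit 7]))) (TL.node (TL.node (TL.leaf [nat_lit 1, nat_lit 1, nat_lit 1]) (TL.leaf [nat_lit 5, nat_lit 7])) (TL.node (TL.leaf [nat_lit 2, nat_lit 4]) (TL.leaf [nat_lit 6, nat_lit 6, nat_lit 6])))) (TL.node (TL.node (TL.node (TL.leaf [nat_lit 4, nat_lit 4, nat_lit 4]) (TL.leaf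 [nat_lit 3, nat_lit 3, nat_lit 3])) (TL.node (TL.leaf [nat_lit 3, nat_lit 7]) (TL.leaf [nat_lit 5, nat_lit 5, nat_lit 5]))) (TL.node (TL.node (TL.leaf [nat_lit 2, nat_lit 7]) (TL.leaf [nat_lit 7, nat_lit 7, nat_lit 7])) (TL.leaf [nat_lit 5, nat_lit 5, nat_lit 5])))) (TL.node (TL.node (TL.node (TL.node (TL.leaf [nat_lit 5, nat_lit 5, nat_lit 5]) (TL.leaf [nat_lit 4, nat_lit 7])) (TL.node (TL.leaf [nat_lit 1, nat_lit 1, nat_lit 1]) (TL.leaf [nat_lit 5, nat_lit 7]))) (TL.node (TL.node (TL.leaf [nat_lit 1, nat_lit 7]) (TL.leaf [nat_lit 5, nat_lit 6])) (TL.leaf [nat_lit 2, nat_lit 6]))) (TL.node (TL.node (TL.node (TL.leaf [nat_lit 4, nat_lit 4, nat_lit 4]) (TL.leaf [nat_lit 5, nat_lit 5, nat_lit 5])) (TL.node (TL.leaf [nat_lit 7, nat_lit 7, nat_lit 7]) (TL.leaf [nat_lit 6, nat_lit 7]))) (TL.node (TL.node (TL.leaf [nat_lit 4, nat_lit 4, nat_lit 4]) (TL.leaf [nat_lit 6, nat_lit 6, nat_lit 6])) (TL.leaf [nat_lit 5, nat_lit 5, nat_lit 5]))))))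
noncomputable def V1 (i : ℕ) : List ℕ := TL.get V1_t i
def V2_t : TL := (TL.node (TL.node (TL.node (TL.node (TL.node (TL.node (TL.leaf []) (TL.leaf [])) (TL.node (TL.leaf []) (TL.leaf [nat_lit 7, nat_lit 3, nat_lit 1]))) (TL.node (TL.node (TL.leaf []) (TL.leaf [])) (TL.node (TL.leaf [nat_lit 7, nat_lit 2]) (TL.leaf [nat_lit 7, nat_lit 6, nat_lit 4, nat_lit 3, nat_lit 3, nat_lit 2, nat_lit 2, nat_lit 1, nat_lit 1])))) (TL.node (TL.node (TL.node (TL.leaf []) (TL.leaf [nat_lit 5, nat_lit 4, nat_lit 2, nat_lit 1, nat_lit 1])) (TL.node (TL.leaf [nat_lit 4, nat_lit 1]) (TL.leaf [nat_lit 1, nat_lit 1]))) (TL.node (TL.node (TL.leaf [nat_lit 6, nat_lit 2]) (TL.leaf [nat_lit 6, nat_lit 3, nat_lit 2, nat_lit 2, nat_lit 1, nat_lit 1])) (TL.leaf [nat_lit 4, nat_lit 3])))) (TL.node (TL.node (TL.node (TL.node (TL.leaf []) (TL.leaf [nat_lit 6, nat_lit 3, nat_lit 2, nat_lit 2, nat_lit 1, nat_lit 1])) (TL.node (TL.leaf [nat_lit 2, nat_lit 2, nat_lit 1]) (TL.leaf [nat_lit 6, nat_lit 4, nat_lit 2, nat_lit 1, nat_lit 1]))) (TL.node (TL.node (TL.leaf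 [nat_lit 6, nat_lit 1]) (TL.leaf [nat_lit 5, nat_lit 3, nat_lit 2, nat_lit 2, nat_lit 1, nat_lit 1])) (TL.node (TL.leaf [nat_lit 5, nat_lit 2]) (TL.leaf [nat_lit 1, nat_lit 1])))) (TL.node (TL.node (TL.node (TL.leaf []) (TL.leaf [nat_lit 6, nat_lit 5, nat_lit 4, nat_lit 1])) (TL.node (TL.leaf [nat_lit 6, nat_lit 5, nat_lit 4, nat_lit 1]) (TL.leaf [nat_lit 7, nat_lit 5, nat_lit 4, nat_lit 2, nat_lit 2, nat_lit 1]))) (TL.node (TL.node (TL.leaf [nat_lit 1, nat_lit 1]) (TL.leaf [nat_lit 7, nat_lit 6, nat_lit 4, nat_lit 3, nat_lit 3, nat_lit 2, nat_lit 2, nat_lit 1, nat_lit 1])) (TL.leaf [nat_lit 5, nat_lit 2]))))) (TL.node (TL.node (TL.node (TL.node (TL.node (TL.leaf []) (TL.leaf [nat_lit 6, nat_lit 4, nat_lit 2, nat_lit 1, nat_lit 1])) (TL.node (TL.leaf [nat_lit 1, nat_lit 1]) (TL.leaf [nat_lit 7, nat_lit 4, nat_lit 2, nat_lit 2, nat_lit 1, nat_lit 1]))) (TL.node (TL.node (TL.leaf []) (TL.leaf [nat_lit 7, nat_lit 5, nat_lit 4, nat_lit 2, nat_lit 2, nat_lit 1])) (TL.node (TL.leaf [nat_lit 4, nat_lit 2]) (TL.leaf [nat_lit 2, nat_lit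 2, nat_lit 1])))) (TL.node (TL.node (TL.node (TL.leaf []) (TL.leaf [])) (TL.node (TL.leaf [nat_lit 7, nat_lit 3, nat_lit 1]) (TL.leaf []))) (TL.node (TL.node (TL.leaf [nat_lit 7, nat_lit 2]) (TL.leaf [nat_lit 1, nat_lit 1])) (TL.leaf [])))) (TL.node (TL.node (TL.node (TL.node (TL.leaf []) (TL.leaf [nat_lit 7, nat_lit 4, nat_lit 2, nat_lit 2, nat_lit 1, nat_lit 1])) (TL.node (TL.leaf []) (TL.leaf [nat_lit 7, nat_lit 5, nat_lit 4, nat_lit 2, nat_lit 2, nat_lit 1]))) (TL.node (TL.node (TL.leaf [nat_lit 7, nat_lit 1]) (TL.leaf [nat_lit 6, nat_lit 5, nat_lit 4, nat_lit 1])) (TL.leaf [nat_lit 6, nat_lit 2]))) (TL.node (TL.node (TL.node (TL.leaf []) (TL.leaf [])) (TL.node (TL.leaf [nat_lit 1, nat_lit 1]) (TL.leaf [nat_lit 7, nat_lit 6, nat_lit 4, nat_lit 3, nat_lit 3, nat_lit 2, nat_lit 2, nat_lit 1, nat_lit 1]))) (TL.node (TL.node (TL.leaf []) (TL.leaf [nat_lit 2, nat_lit 2, nat_lit 1])) (TL.leaf []))))))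
noncomputable def V2 (i : ℕ) : List ℕ := TL.get V2_t i
def Y_t : TL := (TL.node (TL.node (TL.node (TL.leaf [nat_lit 7, nat_lit 6, nat_lit 6, nat_lit 5, nat_lit 5, nat_lit 4, nat_lit 3, nat_lit 1]) (TL.leaf [nat_lit 4, nat_lit 4, nat_lit 3, nat_lit 1, nat_lit 1])) (TL.node (TL.leaf [nat_lit 7, nat_lit 6, nat_lit 6, nat_lit 3, nat_lit 3, nat_lit 2, nat_lit 2, nat_lit 1, nat_lit 1]) (TL.leaf [nat_lit 7, nat_lit 6, nat_lit 5, nat_lit 4, nat_lit 4, nat_lit 3, nat_lit 2, nat_lit 1]))) (TL.node (TL.node (TL.leaf [nat_lit 2, nat_lit 2, nat_lit 1, nat_lit 1]) (TL.leaf [nat_lit 3, nat_lit 3])) (TL.leaf [nat_lit 1, nat_lit 1])))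
noncomputable def Y (i : ℕ) : List ℕ := TL.get Y_t i
def O_t : TL := (TL.node (TL.node (TL.node (TL.leaf [nat_lit 0]) (TL.leaf [nat_lit 2, nat_lit 771, nat_lit 570])) (TL.node (TL.leaf [nat_lit 46]) (TL.leaf [nat_lit 2, nat_lit 771, nat_lit 1152, nat_lit 903, nat_lit 570, nat_lit 46, nat_lit 612, nat_lit 356, nat_lit 1147, nat_lit 1050, nat_lit 1602, nat_lit 1714, nat_lit 1047, nat_lit 324, nat_lit 901, nat_lit 888, nat_lit 112, nat_lit 1650, nat_lit 1395, nat_lit 216, nat_lit 1310, nat_lit 1149, nat_lit 1496, nat_lit 1608, nat_lit 1521, nat_lit 256, nat_lit 1350]))) (TL.node (TL.node (TL.leaf [nat_lit 13]) (TL.leaf [nat_lit 2, nat_lit 771, nat_lit 1152, nat_lit 570, nat_lit 46, nat_lit 356, nat_lit 1602, nat_lit 1047, nat_lit 888])) (TL.leaf [nat_lit 2])))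
noncomputable def O (i : ℕ) : List ℕ := TL.get O_t i
noncomputable def f1 : ℕ → ℕ := rvE Q B (nat_lit 17) Ru
noncomputable def f2 (j : ℕ) : ℕ := rlE I Ru (nat_lit 43) (nat_lit 9) (U j) (V1 j) (V2 j) (D j)
noncomputable def f3 : ℕ → ℕ := tgR I Ru (nat_lit 43) (nat_lit 3) (nat_lit 9) C D (nat_lit 60) La
noncomputable def f4 : ℕ → ℕ := chE Q B (nat_lit 1782) (nat_lit 17) (nat_lit 7) (nat_lit 10) Y O
theorem ra0 : Nat.beq (rng f1 (nat_lit 0) (nat_lit 43)) (nat_lit 0) = true := by decide +kernel
theorem rb0 : Nat.beq (rng f2 (nat_lit 0) (nat_lit 59)) (nat_lit 0) = true := by decide +kernel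
theorem rc0 : Nat.beq (rng f3 (nat_lit 0) (nat_lit 7)) (nat_lit 0) = true := by decide +kernel
theorem rd0 : Nat.beq (rng f4 (nat_lit 0) (nat_lit 7)) (nat_lit 0) = true := by decide +kernel
theorem h1 : ∀ i < 43, f1 i = 0 := by
  have h := zero_lt_zero f1
  have h := zero_lt_add (a := (nat_lit 0)) (n := (nat_lit 43)) (b := (nat_lit 43)) h ra0 rfl
  exact h
theorem h2 : ∀ i < 59, f2 i = 0 := by
  have h := zero_lt_zero f2
  have h := zero_lt_add (a := (nat_lit 0)) (n := (nat_lit 59)) (b := (nat_lit 59)) h rb0 rfl
  exact h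
theorem h3 : ∀ i < 7, f3 i = 0 := by
  have h := zero_lt_zero f3
  have h := zero_lt_add (a := (nat_lit 0)) (n := (nat_lit 7)) (b := (nat_lit 7)) h rc0 rfl
  exact h
theorem h4 : ∀ i < 7, f4 i = 0 := by
  have h := zero_lt_zero f4
  have h := zero_lt_add (a := (nat_lit 0)) (n := (nat_lit 7)) (b := (nat_lit 7)) h rd0 rfl
  exact h
theorem nok : NoK (Cfsg.Spor.Suz) (3 ^ (1 + 1)) := fun _ _ _ _ h =>
  (md.rv (I := I) (K := 43) rfl ⟨rfl, by decide⟩ (upTo_beq (by decide +kernel)) h1).core h (by norm_num)
    (md.syl (by norm_num) rfl (by decide) h4) (by rw [Suz.card]; decide) (n := 9) (s := 1) (e := e) (L := Le) (C := C)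
    ⟨rfl, by decide, rfl, by decide, by decide, rfl, by decide⟩ h2 (upTo_beq (by decide +kernel)) (upTo_beq (by decide +kernel)) h3

end Cfsg.Agent.Ct.Suzs.S3
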